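import Mathlib

/-!
Algebraic Poincaré lemma for a polynomial ring in characteristic zero: contraction with the Euler
vector field gives a homotopy whose commutator with `d` is multiplication by the weight.
-/

namespace GrothLib.ExtDeRham.Poincare

noncomputable section

open MvPolynomial

universe u

variable {k : Type u} [Field k] {n : ℕ}

local notation "A" => MvPolynomial (Fin n) k
local notation "Ω" => KaehlerDifferential k (MvPolynomial (Fin n) k)
local notation "Λ" => ExteriorAlgebra (MvPolynomial (Fin n) k) (KaehlerDifferential k (MvPolynomial (Fin n) k))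

variable (k n) in
/-- the Euler derivation -/
def euler : Derivation k A A := mkDerivation k X

variable (k n) in
/-- contraction with the Euler vector field -/
def contr : Λ →ₗ[A] Λ := CliffordAlgebra.contractLeft (euler k n).liftKaehlerDifferential

theorem euler_monomial (s : Fin n →₀ ℕ) (c : k) :
    euler k n (monomial s c) = (s.degree : k) • monomial s c := by
  induction s using Finsupp.induction generalizing c with
  | zero => simp [euler, ← C_apply]
  | single_add i b s hi hb ih =>
    have hX : ∀ b : ℕ, euler k n (X i ^ b) = (b : k) • X i ^ b := by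
      intro b
      induction b with
      | zero => simp
      | succ b ihb =>
        have hx : euler k n (X i) = X i := mkDerivation_X k X i
        rw [pow_succ, Derivation.leibniz, ihb, hx]
        simp only [smul_eq_mul, mul_smul_comm, Nat.cast_succ, add_smul, one_smul]
        rw [mul_comm (X i : A)]
        ring
    rw [monomial_single_add, Derivation.leibniz, ih, hX]
    simp only [map_add, Finsupp.degree_single, Nat.cast_add, add_smul, smul_eq_mul, mul_smul_comm]
    rw [mul_comm (monomial s c)]
    abel

theorem contr_algebraMap (a : A) : contr k n (algebraMap A Λ a) = 0 :=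
  CliffordAlgebra.contractLeft_algebraMap _ _ a

theorem contr_ι_mul (v : Ω) (x : Λ) : contr k n (ExteriorAlgebra.ι A v * x) =
    (euler k n).liftKaehlerDifferential v • x - ExteriorAlgebra.ι A v * contr k n x :=
  CliffordAlgebra.contractLeft_ι_mul _ _ _

theorem contr_mem {p : ℕ} {x : Λ} (hx : x ∈ ExteriorAlgebra.exteriorPower A p Ω) :
    (p = 0 → contr k n x = 0) ∧
      ∀ q, p = q + 1 → contr k n x ∈ ExteriorAlgebra.exteriorPower A q Ω := by
  induction hx using Submodule.pow_induction_on_left' with
  | algebraMap r => exact ⟨fun _ => contr_algebraMap r, fun q h => by omega⟩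
  | add x y i hx hy ihx ihy =>
    refine ⟨fun h => by rw [map_add, ihx.1 h, ihy.1 h, add_zero], fun q h => ?_⟩
    rw [map_add]; exact add_mem (ihx.2 q h) (ihy.2 q h)
  | mem_mul m hm i x hx ih =>
    obtain ⟨v, rfl⟩ := hm
    refine ⟨fun h => by omega, fun q h => ?_⟩
    obtain rfl : i = q := by omega
    rw [contr_ι_mul]
    refine sub_mem (Submodule.smul_mem _ _ hx) ?_
    cases i with
    | zero => rw [ih.1 rfl, mul_zero]; exact zero_mem _
    | succ j =>
      show _ ∈ LinearMap.range (ExteriorAlgebra.ι A) ^ (j + 1)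
      rw [pow_succ']
      exact Submodule.mul_mem_mul ⟨v, rfl⟩ (ih.2 j rfl)

set_option maxHeartbeats 1000000 in
theorem exact_of_derivation [CharZero k] (d : Λ →ₗ[k] Λ)
    (h0 : ∀ a : A, d (algebraMap A Λ a) = ExteriorAlgebra.ι A (KaehlerDifferential.D k A a))
    (hder : ∀ (p : ℕ) (ω η : Λ), ω ∈ ExteriorAlgebra.exteriorPower A p Ω →
      d (ω * η) = d ω * η + (-1) ^ p * ω * d η)
    (hdd : ∀ ω, d (d ω) = 0) :
    (∀ a : A, d (algebraMap A Λ a) = 0 → ∃ c : k, a = C c) ∧
    ∀ (p : ℕ) (ω : Λ), ω ∈ ExteriorAlgebra.exteriorPower A (p + 1) Ω → d ω = 0 →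
      ∃ θ ∈ ExteriorAlgebra.exteriorPower A p Ω, d θ = ω := by
  set κ : Λ →ₗ[k] Λ := (contr k n).restrictScalars k with hκ
  set L : Module.End k Λ := d ∘ₗ κ + κ ∘ₗ d with hL
  have hLx : ∀ x, L x = d (contr k n x) + contr k n (d x) := fun x => rfl
  have hamem : ∀ a : A, algebraMap A Λ a ∈ ExteriorAlgebra.exteriorPower A 0 Ω := fun a => by
    show _ ∈ LinearMap.range (ExteriorAlgebra.ι A) ^ 0
    rw [pow_zero]; exact Submodule.mem_one.mpr ⟨a, rfl⟩
  have hd0 : ∀ (a : A) (x : Λ), d (algebraMap A Λ a * x) =
      ExteriorAlgebra.ι A (KaehlerDifferential.D k A a) * x + algebraMap A Λ a * d x := by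
    intro a x
    rw [hder 0 _ x (hamem a), h0, pow_zero, one_mul]
  have hde : ∀ (i : Fin n) (x : Λ),
      d (ExteriorAlgebra.ι A (KaehlerDifferential.D k A (X i)) * x) =
        -(ExteriorAlgebra.ι A (KaehlerDifferential.D k A (X i)) * d x) := by
    intro i x
    have h1 : ExteriorAlgebra.ι A (KaehlerDifferential.D k A (X i : A)) ∈
        ExteriorAlgebra.exteriorPower A 1 Ω := by
      show _ ∈ LinearMap.range (ExteriorAlgebra.ι A) ^ 1
      rw [pow_one]; exact ⟨_, rfl⟩
    rw [hder 1 _ x h1, ← h0, hdd]
    simp
  have hlift : ∀ a : A,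
      (euler k n).liftKaehlerDifferential (KaehlerDifferential.D k A a) = euler k n a :=
    fun a => Derivation.liftKaehlerDifferential_comp_D _ a
  -- multiplication by a function
  have hLa : ∀ (a : A) (x : Λ),
      L (algebraMap A Λ a * x) = euler k n a • x + algebraMap A Λ a * L x := by
    intro a x
    rw [hLx, hLx, ← Algebra.smul_def, map_smul, Algebra.smul_def, hd0, Algebra.smul_def, hd0,
      map_add, contr_ι_mul, hlift, ← Algebra.smul_def a (d x), map_smul, Algebra.smul_def a (contr k n (d x)),
      Algebra.smul_def, mul_add]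
    abel
  -- multiplication by a coordinate one-form
  have hLe : ∀ (i : Fin n) (x : Λ), L (ExteriorAlgebra.ι A (KaehlerDifferential.D k A (X i)) * x) =
      ExteriorAlgebra.ι A (KaehlerDifferential.D k A (X i)) * (x + L x) := by
    intro i x
    have hE : euler k n (X i) = X i := mkDerivation_X k X i
    rw [hLx, hLx, contr_ι_mul, hlift, hE, map_sub, Algebra.smul_def, hd0, hde, hde, map_neg,
      contr_ι_mul, hlift, hE, Algebra.smul_def, mul_add, mul_add]
    abel
  -- weight decomposition
  let T : ℕ → ℕ → Submodule k Λ := fun p w =>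
    Module.End.eigenspace L (w : k) ⊓ (ExteriorAlgebra.exteriorPower A p Ω).restrictScalars k
  let S : ℕ → Submodule k Λ := fun p => ⨆ w : ℕ, ⨆ _ : p ≤ w, T p w
  have hSmono : ∀ (p w : ℕ), p ≤ w → T p w ≤ S p := fun p w h =>
    le_iSup₂ (f := fun w (_ : p ≤ w) => T p w) w h
  have hdec : ∀ (p : ℕ) (x : Λ), x ∈ ExteriorAlgebra.exteriorPower A p Ω → x ∈ S p := by
    intro p x hx
    induction hx using Submodule.pow_induction_on_left' with
    | algebraMap r =>
      rw [as_sum r, map_sum]
      refine Submodule.sum_mem _ fun s _ => hSmono 0 s.degree (Nat.zero_le _) ⟨?_, hamem _⟩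
      rw [SetLike.mem_coe, Module.End.mem_eigenspace_iff]
      have h := hLa (monomial s (coeff s r)) 1
      rw [mul_one] at h
      have h1 : L 1 = 0 := by
        rw [hLx, ← map_one (algebraMap A Λ), contr_algebraMap, h0]
        simp
      rw [h, h1, mul_zero, add_zero, euler_monomial, ← Algebra.algebraMap_eq_smul_one,
        Algebra.smul_def (s.degree : k), map_mul, ← IsScalarTower.algebraMap_apply k A Λ,
        ← Algebra.smul_def]
    | add x y i hx hy ihx ihy => exact add_mem ihx ihy
    | mem_mul m hm i x hx ih =>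
      obtain ⟨v, rfl⟩ := hm
      rw [← (KaehlerDifferential.mvPolynomialBasis k (Fin n)).sum_repr v, map_sum, Finset.sum_mul]
      refine Submodule.sum_mem _ fun j _ => ?_
      rw [KaehlerDifferential.mvPolynomialBasis_apply, map_smul, smul_mul_assoc,
        as_sum ((KaehlerDifferential.mvPolynomialBasis k (Fin n)).repr v j), Finset.sum_smul]
      refine Submodule.sum_mem _ fun s _ => ?_
      generalize (coeff s ((KaehlerDifferential.mvPolynomialBasis k (Fin n)).repr v j)) = c
      let g : Λ →ₗ[k] Λ := LinearMap.mulLeft k (algebraMap A Λ (monomial s c) *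
        ExteriorAlgebra.ι A (KaehlerDifferential.D k A (X j)))
      suffices S i ≤ (S (i + 1)).comap g by
        have := this ih
        rwa [Submodule.mem_comap, LinearMap.mulLeft_apply, mul_assoc, ← Algebra.smul_def] at this
      refine iSup₂_le fun w hw y hy => ?_
      obtain ⟨hy1, hy2⟩ := hy
      rw [SetLike.mem_coe, Module.End.mem_eigenspace_iff] at hy1
      rw [Submodule.mem_comap, LinearMap.mulLeft_apply, mul_assoc]
      refine hSmono _ (s.degree + (1 + w)) (by omega) ⟨?_, ?_⟩
      · rw [SetLike.mem_coe, Module.End.mem_eigenspace_iff, hLa, hLe, hy1, euler_monomial]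
        simp only [Nat.cast_add, Nat.cast_one, add_smul, one_smul, mul_add, mul_smul_comm,
          smul_assoc, Algebra.smul_def (monomial s c)]
      · show _ ∈ ExteriorAlgebra.exteriorPower A (i + 1) Ω
        rw [← Algebra.smul_def]
        refine Submodule.smul_mem _ _ ?_
        show _ ∈ LinearMap.range (ExteriorAlgebra.ι A) ^ (i + 1)
        rw [pow_succ']
        exact Submodule.mul_mem_mul ⟨_, rfl⟩ hy2
  refine ⟨fun a ha => ⟨coeff 0 a, ?_⟩, fun p ω hω hd => ?_⟩
  · rw [h0, map_eq_zero_iff _ ((ExteriorAlgebra.ι_leftInverse (R := A) (M := Ω)).injective)] at ha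
    have hEa : euler k n a = 0 := by rw [← hlift a, ha, map_zero]
    ext m
    rw [coeff_C]
    have key : coeff m (euler k n a) = (m.degree : k) * coeff m a := by
      conv_lhs => rw [as_sum a, map_sum, coeff_sum]
      simp only [euler_monomial, coeff_smul, coeff_monomial, smul_eq_mul, mul_ite, mul_zero]
      rw [Finset.sum_ite_eq']
      split_ifs with h
      · rfl
      · rw [notMem_support_iff.mp h, mul_zero]
    rw [hEa, coeff_zero, zero_eq_mul, Nat.cast_eq_zero, Finsupp.degree_eq_zero_iff] at key
    rcases key with h | h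
    · subst h; simp
    · rw [h]
      split_ifs with h'
      · subst h'; exact h.symm
      · rfl
  · obtain ⟨f, hf, hsum⟩ := (Submodule.mem_iSup_iff_exists_finsupp _ _).mp (hdec _ _ hω)
    have hfm : ∀ w, (f w ≠ 0 → p + 1 ≤ w) ∧ L (f w) = (w : k) • f w ∧
        f w ∈ ExteriorAlgebra.exteriorPower A (p + 1) Ω := by
      intro w
      by_cases h : p + 1 ≤ w
      · have := hf w
        rw [iSup_pos h] at this
        exact ⟨fun _ => h, Module.End.mem_eigenspace_iff.mp this.1, this.2⟩
      · have := hf w
        rw [iSup_neg h, Submodule.mem_bot] at this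
        exact ⟨fun e => (e this).elim, by simp [this], by simp [this]⟩
    have hdf : ∀ w, d (f w) = 0 := by
      intro w
      by_cases hw : w ∈ f.support
      · have hind : iSupIndep fun w : ℕ => Module.End.eigenspace L (w : k) :=
          (Module.End.eigenspaces_iSupIndep L).comp Nat.cast_injective
        refine (iSupIndep_iff_finsetSum_eq_zero_imp_eq_zero _).mp hind f.support
          (fun w => d (f w)) (fun v _ => ?_) ?_ w hw
        · rw [Module.End.mem_eigenspace_iff, ← map_smul, ← (hfm v).2.1, hLx, hLx, map_add, hdd, hdd,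
            map_zero, zero_add, add_zero]
        · rw [← map_sum]
          exact (congrArg d hsum).trans hd
      · rw [Finsupp.notMem_support_iff.mp hw, map_zero]
    refine ⟨∑ w ∈ f.support, (w : k)⁻¹ • contr k n (f w), Submodule.sum_mem _ fun w _ => ?_, ?_⟩
    · rw [← IsScalarTower.algebraMap_smul A]
      exact Submodule.smul_mem _ _ ((contr_mem (hfm w).2.2).2 p rfl)
    · rw [map_sum]
      refine Eq.trans (Finset.sum_congr rfl fun w hw => ?_) hsum
      have hpos : (w : k) ≠ 0 := by
        have := (hfm w).1 (Finsupp.mem_support_iff.mp hw)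
        exact Nat.cast_ne_zero.mpr (by omega)
      have h := (hfm w).2.1
      rw [hLx, hdf, map_zero, add_zero] at h
      rw [map_smul, h, inv_smul_smul₀ hpos]

end

end GrothLib.ExtDeRham.Poincare
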